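import Mathlib
import Cfsg.Agent.Lib.Helper50.HUPT.Defs

/-!
# HUPT package [G24] (helper6)
-/

set_option autoImplicit false

universe v

namespace Cfsg.Agent.Lib.Helper6.HUPT

open Cfsg.Agent.Lib.Helper50.HUPT

/-- the automorphism group of a group of order 4 has order dividing 6 -/
theorem g24_aut4 {H : Type v} [Group H] [Finite H] (h4 : Nat.card H = 4) :
    Nat.card (MulAut H) ∣ 6 := by
  classical
  let f : MulAut H →* Equiv.Perm H := MulAut.toPerm H
  have hinj : Function.Injective f := by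
    intro a b hab
    ext x
    have h := congrArg (fun σ : Equiv.Perm H => σ x) hab
    exact h
  have hrange : f.range ≤ MulAction.stabilizer (Equiv.Perm H) (1 : H) := by
    rintro _ ⟨a, rfl⟩
    rw [MulAction.mem_stabilizer_iff]
    show a 1 = 1
    exact map_one a
  have hstab : Nat.card (MulAction.stabilizer (Equiv.Perm H) (1 : H)) = 6 := by
    have h1 : (MulAction.stabilizer (Equiv.Perm H) (1 : H)).index = 4 := by
      rw [MulAction.index_stabilizer, MulAction.orbit_eq_univ, Set.ncard_univ, h4]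
    have h2 := Subgroup.card_mul_index (MulAction.stabilizer (Equiv.Perm H) (1 : H))
    rw [h1, Nat.card_perm, h4] at h2
    have : Nat.factorial 4 = 24 := by decide
    omega
  have hcard : Nat.card (MulAut H) = Nat.card f.range :=
    Nat.card_congr (Equiv.ofInjective f hinj)
  rw [hcard, ← hstab]
  exact Subgroup.card_dvd_of_le hrange

theorem g24_comm {G : Type v} [Group G] (a b c : G) (k : ℕ) (hc : ∀ g : G, g * c = c * g)
    (hb : b = a ^ k * c) : a * b = b * a := by
  subst hb
  rw [← mul_assoc, ← pow_succ', mul_assoc, ← hc a, ← mul_assoc, ← pow_succ]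

theorem g24_cmul {G : Type v} [Group G] (g h a : G)
    (hz : ∀ x : G, x * (h * a * h⁻¹ * a⁻¹) = (h * a * h⁻¹ * a⁻¹) * x) :
    (g * h) * a * (g * h)⁻¹ * a⁻¹ = (g * a * g⁻¹ * a⁻¹) * (h * a * h⁻¹ * a⁻¹) := by
  have h1 : (g * h) * a * (g * h)⁻¹ * a⁻¹ = g * (h * a * h⁻¹ * a⁻¹) * (a * g⁻¹ * a⁻¹) := by group
  rw [h1, hz g, hz (g * a * g⁻¹ * a⁻¹)]
  simp only [mul_assoc]

theorem g24_sq {G : Type v} [Group G] (g a : G)
    (hz : ∀ x : G, x * (g * a * g⁻¹ * a⁻¹) = (g * a * g⁻¹ * a⁻¹) * x)
    (ha2 : ∀ x : G, x * (a * a) = (a * a) * x) :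
    (g * a * g⁻¹ * a⁻¹) * (g * a * g⁻¹ * a⁻¹) = 1 := by
  have h1 : (g * a * g⁻¹ * a⁻¹) * (g * a * g⁻¹ * a⁻¹) * (a * a)
      = (g * a * g⁻¹ * a⁻¹) * a * ((g * a * g⁻¹ * a⁻¹) * a) := by
    calc (g * a * g⁻¹ * a⁻¹) * (g * a * g⁻¹ * a⁻¹) * (a * a)
        = (g * a * g⁻¹ * a⁻¹) * ((g * a * g⁻¹ * a⁻¹) * a) * a := by simp only [mul_assoc]
      _ = (g * a * g⁻¹ * a⁻¹) * (a * (g * a * g⁻¹ * a⁻¹)) * a := by rw [← hz a]
      _ = (g * a * g⁻¹ * a⁻¹) * a * ((g * a * g⁻¹ * a⁻¹) * a) := by simp only [mul_assoc]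
  have h2 : (g * a * g⁻¹ * a⁻¹) * a * ((g * a * g⁻¹ * a⁻¹) * a) = g * (a * a) * g⁻¹ := by group
  have h3 : g * (a * a) * g⁻¹ = a * a := by rw [ha2 g]; group
  have h4 := h1.trans (h2.trans h3)
  exact mul_right_cancel (h4.trans (one_mul _).symm)

theorem g24_T {Z : Type v} [Group Z] [Finite Z] [IsCyclic Z] (S : Subgroup (Z × Z))
    (hS : ∀ x ∈ S, x.1 * x.1 = 1 ∧ x.2 * x.2 = 1) : Nat.card S ∣ 4 := by
  classical
  have : Fintype Z := Fintype.ofFinite Z
  have hp : IsPGroup 2 S := by
    intro x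
    refine ⟨1, ?_⟩
    rw [pow_one, pow_two]
    apply Subtype.ext
    apply Prod.ext
    · exact (hS x.1 x.2).1
    · exact (hS x.1 x.2).2
  have : Fact (Nat.Prime 2) := ⟨Nat.prime_two⟩
  obtain ⟨n, hn⟩ := IsPGroup.iff_card.mp hp
  have hle : Nat.card S ≤ 4 := by
    let T : Finset Z := Finset.univ.filter (fun a : Z => a ^ 2 = 1)
    have hT : T.card ≤ 2 := IsCyclic.card_pow_eq_one_le (α := Z) (n := 2) (by norm_num)
    have h1 : Nat.card S = (Finset.univ.filter (fun x : Z × Z => x ∈ S)).card := by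
      rw [Nat.card_eq_fintype_card, Fintype.card_subtype]
    have h2 : (Finset.univ.filter (fun x : Z × Z => x ∈ S)) ⊆ T ×ˢ T := by
      intro x hx
      rw [Finset.mem_filter] at hx
      rw [Finset.mem_product]
      simp only [T, Finset.mem_filter, Finset.mem_univ, true_and, pow_two]
      exact hS x hx.2
    rw [h1]
    calc _ ≤ (T ×ˢ T).card := Finset.card_le_card h2
      _ = T.card * T.card := Finset.card_product T T
      _ ≤ 2 * 2 := Nat.mul_le_mul hT hT
  rw [hn] at hle ⊢
  have hn2 : n ≤ 2 := by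
    by_contra h
    push Not at h
    have h3 : 2 ^ 3 ≤ 2 ^ n := Nat.pow_le_pow_right (by norm_num) h
    omega
  exact (pow_dvd_pow 2 hn2).trans (by norm_num)

theorem pkgG24 : PkgG24.{v} := by
  intro G _ _ M hMn hcyc hidx hZM hCM
  classical
  have := hMn
  let W : Subgroup G := M ⊓ Subgroup.center G
  have hWn : W.Normal := Subgroup.normal_inf_normal M (Subgroup.center G)
  let π : G →* G ⧸ W := QuotientGroup.mk' W
  have hπsurj : Function.Surjective π := QuotientGroup.mk'_surjective W
  have hπker : ∀ g : G, π g = 1 ↔ g ∈ W := fun g => QuotientGroup.eq_one_iff g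
  let Mb : Subgroup (G ⧸ W) := M.map π
  have hMbn : Mb.Normal := Subgroup.Normal.map hMn π hπsurj
  have hWc : ∀ w ∈ W, ∀ g : G, g * w = w * g :=
    fun w hw g => Subgroup.mem_center_iff.mp hw.2 g
  -- center ↥M = W.subgroupOf M
  have hcen : Subgroup.center ↥M = W.subgroupOf M := by
    ext ⟨a, ha⟩
    rw [Subgroup.mem_center_iff, Subgroup.mem_subgroupOf]
    constructor
    · intro h
      refine ⟨ha, hZM a ha ?_⟩
      intro b hb
      have h1 := h ⟨b, hb⟩
      exact (congrArg Subtype.val h1).symm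
    · rintro ⟨-, hz⟩ g
      apply Subtype.ext
      exact (Subgroup.mem_center_iff.mp hz g.1)
  have hrel : (W.subgroupOf M).index = 4 := by rw [← hcen]; exact hidx
  have hMb4 : Nat.card Mb = 4 := by
    have h1 : (π.comp M.subtype).range = Mb := by
      rw [MonoidHom.range_comp, Subgroup.range_subtype]
    have h2 : (π.comp M.subtype).ker = W.subgroupOf M := by
      ext ⟨a, ha⟩
      rw [MonoidHom.mem_ker, Subgroup.mem_subgroupOf]
      exact hπker a
    have h3 := Subgroup.index_ker (π.comp M.subtype)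
    rw [h2, hrel, h1] at h3
    exact h3.symm
  let ψ : G →* MulAut ↥Mb := (MulAut.conjNormal (H := Mb)).comp π
  have hψ6 : ψ.ker.index ∣ 6 := by
    rw [Subgroup.index_ker]
    exact (Subgroup.card_subgroup_dvd_card ψ.range).trans (g24_aut4 hMb4)
  have hker : ∀ g : G, g ∈ ψ.ker ↔ ∀ m ∈ M, g * m * g⁻¹ * m⁻¹ ∈ Subgroup.center G := by
    intro g
    rw [MonoidHom.mem_ker]
    constructor
    · intro h m hm
      have hm' : π m ∈ Mb := Subgroup.mem_map_of_mem π hm
      have h1 := congrArg (fun φ : MulAut ↥Mb => ((φ ⟨π m, hm'⟩ : ↥Mb) : G ⧸ W)) h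
      simp only [ψ, MonoidHom.comp_apply, MulAut.conjNormal_apply, MulAut.one_apply] at h1
      have h2 : π (g * m * g⁻¹ * m⁻¹) = 1 := by
        rw [map_mul, map_mul, map_mul, map_inv, map_inv, h1, mul_inv_cancel]
      exact ((hπker _).mp h2).2
    · intro h
      ext ⟨x, hx⟩
      obtain ⟨m, hm, rfl⟩ := hx
      simp only [ψ, MonoidHom.comp_apply, MulAut.conjNormal_apply, MulAut.one_apply]
      have h1 : g * m * g⁻¹ * m⁻¹ ∈ W :=
        ⟨M.mul_mem (hMn.conj_mem m hm g) (M.inv_mem hm), h m hm⟩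
      have h2 : π (g * m * g⁻¹ * m⁻¹) = 1 := (hπker _).mpr h1
      rw [map_mul, map_mul, map_mul, map_inv, map_inv] at h2
      exact mul_inv_eq_one.mp h2
  have hZker : Subgroup.center G ≤ ψ.ker := by
    intro g hg
    rw [hker]
    intro m hm
    have h1 : g * m * g⁻¹ * m⁻¹ = 1 := by
      rw [← Subgroup.mem_center_iff.mp hg m]; group
    rw [h1]; exact Subgroup.one_mem _
  -- a noncommuting pair
  obtain ⟨a, ha, b, hb, hab⟩ : ∃ a ∈ M, ∃ b ∈ M, a * b ≠ b * a := by
    by_contra hcon
    push Not at hcon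
    have h1 : Subgroup.center ↥M = ⊤ := by
      rw [eq_top_iff]; intro x _
      rw [Subgroup.mem_center_iff]
      intro g
      apply Subtype.ext
      exact hcon g.1 g.2 x.1 x.2
    rw [h1, Subgroup.index_top] at hidx
    omega
  have hdiff : ∀ x y : G, π x = π y → ∃ c ∈ W, y = x * c := by
    intro x y hxy
    refine ⟨x⁻¹ * y, (hπker _).mp ?_, by group⟩
    rw [map_mul, map_inv, hxy, inv_mul_cancel]
  have d1 : π a ≠ 1 := fun h => hab ((hWc a ((hπker a).mp h) b).symm)
  have d2 : π b ≠ 1 := fun h => hab (hWc b ((hπker b).mp h) a)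
  have d3 : π a ≠ π b := by
    intro h
    obtain ⟨c, hc, hbc⟩ := hdiff a b h
    exact hab (g24_comm a b c 1 (hWc c hc) (by rw [pow_one]; exact hbc))
  have d4 : π (a * b) ≠ 1 := by
    intro h
    have h1 := hWc (a * b) ((hπker _).mp h) a
    exact hab (mul_left_cancel (h1.trans (mul_assoc a b a)))
  have d5 : π (a * b) ≠ π a := by
    intro h
    rw [map_mul] at h
    exact d2 (mul_eq_left.mp h)
  have d6 : π (a * b) ≠ π b := by
    intro h
    rw [map_mul] at h
    exact d1 (mul_eq_right.mp h)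
  -- the four cosets
  have hcover : ∀ m ∈ M, π m = 1 ∨ π m = π a ∨ π m = π b ∨ π m = π (a * b) := by
    have : Fintype ↥Mb := Fintype.ofFinite _
    have ha' : π a ∈ Mb := Subgroup.mem_map_of_mem π ha
    have hb' : π b ∈ Mb := Subgroup.mem_map_of_mem π hb
    have hab' : π (a * b) ∈ Mb := Subgroup.mem_map_of_mem π (M.mul_mem ha hb)
    have hS : ({1, ⟨π a, ha'⟩, ⟨π b, hb'⟩, ⟨π (a * b), hab'⟩} : Finset ↥Mb) = Finset.univ := by
      apply Finset.eq_univ_of_card
      rw [← Nat.card_eq_fintype_card, hMb4]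
      rw [Finset.card_insert_of_notMem, Finset.card_insert_of_notMem,
        Finset.card_insert_of_notMem, Finset.card_singleton]
      · simp only [Finset.mem_singleton, Subtype.mk.injEq]
        exact fun h => d6 h.symm
      · simp only [Finset.mem_insert, Finset.mem_singleton, Subtype.mk.injEq, not_or]
        exact ⟨d3, fun h => d5 h.symm⟩
      · simp only [Finset.mem_insert, Finset.mem_singleton, not_or]
        refine ⟨?_, ?_, ?_⟩
        · intro h; exact d1 (congrArg Subtype.val h).symm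
        · intro h; exact d2 (congrArg Subtype.val h).symm
        · intro h; exact d4 (congrArg Subtype.val h).symm
    intro m hm
    have hm' : π m ∈ Mb := Subgroup.mem_map_of_mem π hm
    have h1 : (⟨π m, hm'⟩ : ↥Mb) ∈ ({1, ⟨π a, ha'⟩, ⟨π b, hb'⟩, ⟨π (a * b), hab'⟩} : Finset ↥Mb) := by
      rw [hS]; exact Finset.mem_univ _
    simp only [Finset.mem_insert, Finset.mem_singleton, Subtype.mk.injEq] at h1
    rcases h1 with h | h | h | h
    · left; exact congrArg Subtype.val h
    · right; left; exact h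
    · right; right; left; exact h
    · right; right; right; exact h
  -- squares are central
  have haa : a * a ∈ W := by
    rcases hcover (a * a) (M.mul_mem ha ha) with h | h | h | h
    · exact (hπker _).mp h
    · rw [map_mul] at h; exact absurd (mul_eq_left.mp h) d1
    · obtain ⟨c, hc, hbc⟩ := hdiff (a * a) b h
      exact absurd (g24_comm a b c 2 (hWc c hc) (by rw [pow_two]; exact hbc)) hab
    · rw [map_mul, map_mul] at h; exact absurd (mul_left_cancel h) d3
  have hbb : b * b ∈ W := by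
    rcases hcover (b * b) (M.mul_mem hb hb) with h | h | h | h
    · exact (hπker _).mp h
    · obtain ⟨c, hc, hbc⟩ := hdiff (b * b) a h
      exact absurd (g24_comm b a c 2 (hWc c hc) (by rw [pow_two]; exact hbc)).symm hab
    · rw [map_mul] at h; exact absurd (mul_eq_left.mp h) d2
    · rw [map_mul, map_mul] at h; exact absurd (mul_right_cancel h).symm d3
  have hca : ∀ g : ↥ψ.ker, (g : G) * a * (g : G)⁻¹ * a⁻¹ ∈ Subgroup.center G :=
    fun g => (hker g.1).mp g.2 a ha
  have hcb : ∀ g : ↥ψ.ker, (g : G) * b * (g : G)⁻¹ * b⁻¹ ∈ Subgroup.center G :=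
    fun g => (hker g.1).mp g.2 b hb
  let φ : ↥ψ.ker →* (↥(Subgroup.center G) × ↥(Subgroup.center G)) :=
    MonoidHom.mk' (fun g => (⟨(g : G) * a * (g : G)⁻¹ * a⁻¹, hca g⟩,
        ⟨(g : G) * b * (g : G)⁻¹ * b⁻¹, hcb g⟩))
      (by
        intro g h
        apply Prod.ext
        · apply Subtype.ext
          exact g24_cmul g.1 h.1 a (fun x => Subgroup.mem_center_iff.mp (hca h) x)
        · apply Subtype.ext
          exact g24_cmul g.1 h.1 b (fun x => Subgroup.mem_center_iff.mp (hcb h) x))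
  have hkerφ : φ.ker = (Subgroup.center G).subgroupOf ψ.ker := by
    ext g
    rw [MonoidHom.mem_ker, Subgroup.mem_subgroupOf]
    constructor
    · intro h
      have h1 : (g : G) * a * (g : G)⁻¹ * a⁻¹ = 1 :=
        congrArg (fun t : ↥(Subgroup.center G) × ↥(Subgroup.center G) => (t.1 : G)) h
      have h2 : (g : G) * b * (g : G)⁻¹ * b⁻¹ = 1 :=
        congrArg (fun t : ↥(Subgroup.center G) × ↥(Subgroup.center G) => (t.2 : G)) h
      have hga : (g : G) * a = a * g := by
        have h3 := mul_inv_eq_one.mp h1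
        calc (g : G) * a = (g : G) * a * (g : G)⁻¹ * g := by group
          _ = a * g := by rw [h3]
      have hgb : (g : G) * b = b * g := by
        have h3 := mul_inv_eq_one.mp h2
        calc (g : G) * b = (g : G) * b * (g : G)⁻¹ * g := by group
          _ = b * g := by rw [h3]
      apply hCM
      intro m hm
      rcases hcover m hm with h | h | h | h
      · exact hWc m ((hπker m).mp h) g
      · obtain ⟨c, hc, rfl⟩ := hdiff a m h.symm
        rw [← mul_assoc, hga, mul_assoc, hWc c hc g, ← mul_assoc]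
      · obtain ⟨c, hc, rfl⟩ := hdiff b m h.symm
        rw [← mul_assoc, hgb, mul_assoc, hWc c hc g, ← mul_assoc]
      · obtain ⟨c, hc, rfl⟩ := hdiff (a * b) m h.symm
        have h5 : (g : G) * (a * b) = a * b * g := by
          rw [← mul_assoc, hga, mul_assoc, hgb, ← mul_assoc]
        rw [← mul_assoc, h5, mul_assoc, hWc c hc g, ← mul_assoc]
    · intro hg
      have hg' := Subgroup.mem_center_iff.mp hg
      apply Prod.ext
      · apply Subtype.ext
        show (g : G) * a * (g : G)⁻¹ * a⁻¹ = 1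
        rw [← hg' a]; group
      · apply Subtype.ext
        show (g : G) * b * (g : G)⁻¹ * b⁻¹ = 1
        rw [← hg' b]; group
  have h4 : (Subgroup.center G).relIndex ψ.ker ∣ 4 := by
    have h1 : (Subgroup.center G).relIndex ψ.ker = Nat.card φ.range := by
      rw [← Subgroup.index_ker, hkerφ]; rfl
    rw [h1]
    have := hcyc
    apply g24_T φ.range
    rintro _ ⟨g, rfl⟩
    constructor
    · apply Subtype.ext
      exact g24_sq g.1 a (fun x => Subgroup.mem_center_iff.mp (hca g) x)
        (fun x => hWc (a * a) haa x)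
    · apply Subtype.ext
      exact g24_sq g.1 b (fun x => Subgroup.mem_center_iff.mp (hcb g) x)
        (fun x => hWc (b * b) hbb x)
  have hfin := Subgroup.relIndex_mul_index hZker
  rw [← hfin]
  have h24 : (24 : ℕ) = 4 * 6 := by norm_num
  rw [h24]
  exact Nat.mul_dvd_mul h4 hψ6

end Cfsg.Agent.Lib.Helper6.HUPT
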